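import Mathlib
import Cfsg.Agent.H519.AH.Uni
import Cfsg.Agent.H743.AH.PSUThree
import Cfsg.Agent.H27.AH.Main

/-!
# S2451, the unitary groups (helper519): the row
-/

set_option autoImplicit false
set_option linter.unusedSectionVars false

namespace Cfsg.Agent.H519.AH

open Module Cfsg Cfsg.Agent.LieClassical.HermBasic Cfsg.Agent.LieClassical.HermSiegel
open Cfsg.Agent.ClassicalGeometry.UnitAutBasic Cfsg.Agent.H330.ClassProd Cfsg.Agent.H27.AH

variable {F : Type*} [Field F] [Fintype F] {n : ℕ}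

/-- `3 ∤ n` : the trace is constant -/
theorem kill_two_coprime (hF : Fintype.card F = 2 ^ 2) (hn : 4 ≤ n) (h3 : ¬ 3 ∣ n) {a b c : PSU n F 2}
    (h : AllConj a b c) : a = 1 ∨ b = 1 := by
  obtain ⟨a, rfl⟩ := pr_surjective a
  obtain ⟨b, rfl⟩ := pr_surjective b
  obtain ⟨c, rfl⟩ := pr_surjective c
  refine kill_trace hF hn h fun ζ hζ hζn => ?_
  have h1 : ζ ^ 3 = 1 := by rw [pow_succ']; exact hζ
  have h2 : orderOf ζ ∣ 3 := orderOf_dvd_of_pow_eq_one h1
  have h3' : orderOf ζ ∣ n := orderOf_dvd_of_pow_eq_one hζn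
  rcases (Nat.dvd_prime Nat.prime_three).1 h2 with h4 | h4
  · rw [orderOf_eq_one_iff] at h4
    rw [h4, one_mul]
  · rw [h4] at h3'
    exact absurd h3' h3

/-- `c` a `2`-element -/
theorem kill_two_unip (hF : Fintype.card F = 2 ^ 2) (hn : 4 ≤ n) {a b c : PSU n F 2}
    (h : AllConj a b c) (hc : ∃ k : ℕ, orderOf c = 2 ^ k) : a = 1 ∨ b = 1 := by
  by_cases h3 : 3 ∣ n
  swap
  · exact kill_two_coprime hF hn h3 h
  have : Finite (PSU n F 2) := by
    unfold Cfsg.PSU
    infer_instance
  obtain ⟨k, hk⟩ := hc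
  have hcard : Nat.card (Subgroup.zpowers c) = 2 ^ k := by rw [Nat.card_zpowers, hk]
  obtain ⟨c0, ⟨-, hc1⟩, hc2⟩ := H330.GowCover.exists_up (π := pr n F 2) pr_surjective (by rw [ker_pr])
    (Subgroup.zpowers c) (by
      rw [hcard]
      exact Nat.Coprime.pow_left _ ((Nat.Prime.coprime_iff_not_dvd Nat.prime_two).2
        (not_two_dvd_ker hF (by omega)))) (Subgroup.mem_zpowers c)
  rw [hcard] at hc1
  obtain ⟨a, rfl⟩ := pr_surjective a
  obtain ⟨b, rfl⟩ := pr_surjective b
  rw [← hc2] at h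
  by_cases h2 : 2 ∣ n
  · refine kill_trace hF hn h fun ζ _ _ => ?_
    have : CharP F 2 := charP_two hF
    rw [trace_unip hF hc1, (CharP.cast_eq_zero_iff F 2 n).2 h2, mul_zero]
  · exact kill_uni hF h3 (by omega) h hc1

/-- **The unitary row.** -/
theorem notAC_psu {p : ℕ} [hp : Fact p.Prime] (F : Type) [Field F] [Fintype F] [CharP F p] (n q : ℕ)
    (hF : Fintype.card F = q ^ 2) (hn : 3 ≤ n) (h32 : ¬ (n = 3 ∧ q = 2)) : NotAC p (PSU n F q) := by
  have : Finite (PSU n F q) := by
    unfold Cfsg.PSU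
    infer_instance
  have hG : IsLieTypeChar p (PSU n F q) :=
    Or.inr (Or.inr (Or.inl ⟨F, inferInstance, inferInstance, inferInstance, n, q, hF, hn, h32,
      ⟨MulEquiv.refl _⟩⟩))
  have hsimple : IsSimpleGroup (PSU n F q) := H400.LieSimple.isSimple_of_lie hG
  have hS := hasSplit_of_ab (H716.SplitAb.hasSplitAb_of_lie hp.out hG)
  have hq := two_le hF
  by_cases h3 : n = 3
  · subst h3
    exact ⟨H743.AH.PSUThree.notA_psuThree hF (by omega) hS, H743.AH.PSUThree.notC_psuThree hF (by omega)⟩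
  · by_cases hq2 : q = 2
    · subst hq2
      have h2 : p = 2 := CharP.eq F inferInstance (charP_two hF)
      subst h2
      refine ⟨?_, ?_⟩
      · by_cases hn3 : 3 ∣ n
        · exact notA_two_dvd hF (by omega) hn3 hS
        · intro a b c ha hb _ h _ _ _
          rcases kill_two_coprime hF (by omega) hn3 h with h1 | h1
          · exact ha h1
          · exact hb h1
      · intro a b c ha hb _ h hc
        rcases kill_two_unip hF (by omega) h hc with h1 | h1
        · exact ha h1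
        · exact hb h1
    · exact ⟨notA_three hF (by omega) (by omega) p, notC_three hF (by omega) (by omega) p⟩

end Cfsg.Agent.H519.AH
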