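import Mathlib
import Cfsg.Agent.H105.SzU2
import Cfsg.Agent.ClassicalGeometry.HermOrtho
import Cfsg.Agent.ClassicalGeometry.UnitAutBasic

/-!
# S2451, the unitary groups (helper519): rank one matrices, sesquilinear functions vanishing on isotropic vectors
-/

set_option autoImplicit false
set_option linter.unusedSectionVars false

namespace Cfsg.Agent.H519.AH

open Module Cfsg Cfsg.Agent.LieClassical.HermBasic Cfsg.Agent.LieClassical.HermSiegel
open Cfsg.Agent.H105.SzU Cfsg.Agent.ClassicalGeometry.HermOrtho
open scoped Matrix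

section Rank

variable {F : Type*} [Field F] {n q : ℕ}

/-- the rank one matrix `x ↦ h(x, w) v` -/
def E (q : ℕ) (v w : Fin n → F) : Matrix (Fin n) (Fin n) F := Matrix.vecMulVec v (fun j => w j ^ q)

theorem E_mulVec (v w x : Fin n → F) : E q v w *ᵥ x = hermForm n F q x w • v := by
  rw [E, Matrix.vecMulVec_mulVec, op_smul_eq_smul]
  congr 1
  exact Finset.sum_congr rfl fun i _ => mul_comm _ _

theorem mul_E (A : Matrix (Fin n) (Fin n) F) (v w : Fin n → F) : A * E q v w = E q (A *ᵥ v) w := by
  rw [E, E, Matrix.mul_vecMulVec]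

theorem trace_E (v w : Fin n → F) : (E q v w).trace = hermForm n F q v w := by
  rw [E, Matrix.trace_vecMulVec]
  rfl

theorem E_mul_E (v w x y : Fin n → F) : E q v w * E q x y = hermForm n F q x w • E q v y := by
  rw [mul_E, E_mulVec]
  ext i j
  simp [E, Matrix.vecMulVec_apply, mul_assoc]

/-- the trace of a product of two rank one matrices and two matrices -/
theorem trace_four (A B : Matrix (Fin n) (Fin n) F) (v w x y : Fin n → F) :
    (A * E q v w * (B * E q x y)).trace = hermForm n F q (B *ᵥ x) w * hermForm n F q (A *ᵥ v) y := by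
  rw [mul_E, mul_E, E_mul_E, Matrix.trace_smul, trace_E, smul_eq_mul]

theorem E_smul_left (c : F) (v w : Fin n → F) : E q (c • v) w = c • E q v w := by
  ext i j
  simp [E, Matrix.vecMulVec_apply, mul_assoc]

end Rank

section Poly

variable {F : Type*} [Field F] [Fintype F] {q : ℕ}

open Polynomial in
/-- a quadratic function with three zeros -/
theorem quad_zero {a b c : F} {S : Finset F} (hS : 3 ≤ S.card)
    (h : ∀ x ∈ S, a * x ^ 2 + b * x + c = 0) : a = 0 ∧ b = 0 ∧ c = 0 := by
  let p : F[X] := C a * X ^ 2 + C b * X + C c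
  have h1 : p = 0 := by
    refine Polynomial.eq_zero_of_natDegree_lt_card_of_eval_eq_zero' p S (fun x hx => ?_) ?_
    · simpa [p] using h x hx
    · exact lt_of_le_of_lt natDegree_quadratic_le (by omega)
  refine ⟨?_, ?_, ?_⟩
  · have := congrArg (fun f => f.coeff 2) h1
    simpa [p, coeff_X, coeff_C] using this
  · have := congrArg (fun f => f.coeff 1) h1
    simpa [p, coeff_X, coeff_C] using this
  · have := congrArg (fun f => f.coeff 0) h1
    simpa [p, coeff_X, coeff_C] using this

/-- the solutions of `x ^ (q + 1) = c` -/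
theorem exists_normset (hF : Fintype.card F = q ^ 2) {c : F} (hc : c ^ q = c) (h0 : c ≠ 0) :
    ∃ S : Finset F, 3 ≤ S.card ∧ ∀ x ∈ S, x * x ^ q = c := by
  classical
  have h1 := card_norm_eq hF hc h0
  have h2 := two_le hF
  refine ⟨Finset.univ.filter fun x => x * x ^ q = c, ?_, fun x hx => (Finset.mem_filter.1 hx).2⟩
  rw [← Fintype.card_subtype, ← Nat.card_eq_fintype_card, h1]
  omega

end Poly

section Sesqs

variable {F : Type*} [Field F] [Fintype F] {n q : ℕ} {V : Type*} [AddCommGroup V] [Module F V]

/-- the diagonal values on `x + η y` -/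
theorem sesq_two {f : V → V → F} (hf : Sesq q f) (x y : V) (η : F) :
    f (x + η • y) (x + η • y) = f x x + η ^ q * f x y + η * f y x + η * η ^ q * f y y := by
  rw [hf.addl, hf.addr, hf.addr, hf.smull, hf.smulr, hf.smull, hf.smulr]
  ring

/-- constant on isotropic vectors of an orthonormal pair -/
theorem sesq_pair (hF : Fintype.card F = q ^ 2) {f : V → V → F} (hf : Sesq q f) {x y : V} {κ : F}
    (h : ∀ η : F, η * η ^ q = -1 → f (x + η • y) (x + η • y) = κ) :
    f x y = 0 ∧ f y x = 0 ∧ f x x - f y y = κ := by
  obtain ⟨S, hS, hS1⟩ := exists_normset hF (c := -1) (by rw [neg_pow_q hF, one_pow]) (by simp)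
  obtain ⟨h1, h2, h3⟩ := quad_zero (a := f y x) (b := f x x - f y y - κ) (c := - f x y) hS (by
    intro η hη
    have h4 := hS1 η hη
    have h5 := h η h4
    rw [sesq_two hf] at h5
    linear_combination η * h5 - (f x y + η * f y y) * h4)
  exact ⟨by simpa using h3, h1, by linear_combination h2⟩

variable {ι : Type*} [Fintype ι] [DecidableEq ι]

/-- the values on an orthonormal system -/
theorem sesq_span {f : V → V → F} (hf : Sesq q f) {b : ι → V} {κ : F}
    (h1 : ∀ i j, i ≠ j → f (b i) (b j) = 0) (h2 : ∀ i, f (b i) (b i) = κ) (c d : ι → F) :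
    f (∑ i, c i • b i) (∑ j, d j • b j) = κ * ∑ i, c i * d i ^ q := by
  rw [hf.suml, Finset.mul_sum]
  refine Finset.sum_congr rfl fun i _ => ?_
  rw [hf.sumr, Finset.sum_eq_single i]
  · rw [hf.smull, hf.smulr, h2]
    ring
  · intro j _ hj
    rw [hf.smull, hf.smulr, h1 i j hj.symm]
    ring
  · intro hi
    exact absurd (Finset.mem_univ i) hi

end Sesqs

section Herm

variable {F : Type*} [Field F] [Fintype F] {n q : ℕ}

/-- nondegenerate subspaces -/
def ND (q : ℕ) (U : Submodule F (Fin n → F)) : Prop :=
  ∀ u ∈ U, (∀ v ∈ U, hermForm n F q u v = 0) → u = 0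

theorem herm_orth {ι : Type*} [Fintype ι] [DecidableEq ι] {b : ι → (Fin n → F)}
    (hs : Sesq q (fun x y : Fin n → F => hermForm n F q x y))
    (hb : ∀ i j, hermForm n F q (b i) (b j) = if i = j then 1 else 0) (c d : ι → F) :
    hermForm n F q (∑ i, c i • b i) (∑ j, d j • b j) = ∑ i, c i * d i ^ q := by
  have := sesq_span (κ := 1) hs (b := b) (fun i j hij => by rw [hb, if_neg hij])
    (fun i => by rw [hb, if_pos rfl]) c d
  rw [one_mul] at this
  exact this

/-- **A sesquilinear function constant on the nonzero isotropic vectors of a nondegenerate space is a multiple of the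
form.** -/
theorem sesq_scalar_const (hF : Fintype.card F = q ^ 2) {f : (Fin n → F) → (Fin n → F) → F} (hf : Sesq q f)
    {U : Submodule F (Fin n → F)} (hU : ND q U) {κ : F} (hκ : κ = 0 ∨ 3 ≤ finrank F U)
    (h : ∀ v ∈ U, v ≠ 0 → hermForm n F q v v = 0 → f v v = κ) :
    ∃ ρ : F, ∀ x ∈ U, ∀ y ∈ U, f x y = ρ * hermForm n F q x y := by
  classical
  obtain ⟨b, hbU, hb⟩ := exists_orthonormal hF U hU rfl
  have key : ∀ i j, i ≠ j → f (b i) (b j) = 0 ∧ f (b j) (b i) = 0 ∧ f (b i) (b i) - f (b j) (b j) = κ := by
    intro i j hij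
    refine sesq_pair hF hf fun η hη => ?_
    refine h _ (U.add_mem (hbU i) (U.smul_mem _ (hbU j))) ?_ ?_
    · intro h0
      have h1 := congrArg (fun v => hermForm n F q v (b i)) h0
      simp only [herm_add_left, herm_smul_left, herm_zero_left] at h1
      rw [hb, hb, if_pos rfl, if_neg hij.symm, mul_zero, add_zero] at h1
      exact one_ne_zero h1
    · rw [herm_add_left, herm_add_right hF, herm_add_right hF, herm_smul_left, herm_smul_right, herm_smul_left,
        herm_smul_right, hb, hb, hb, hb, if_pos rfl, if_pos rfl, if_neg hij, if_neg hij.symm]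
      linear_combination hη
  have hκ0 : ∀ i j, i ≠ j → f (b i) (b i) = f (b j) (b j) := by
    intro i j hij
    have h1 := (key i j hij).2.2
    have hk : κ = 0 := by
      rcases hκ with hκ | hκ
      · exact hκ
      · obtain ⟨k, hk1, hk2⟩ : ∃ k : Fin (finrank F U), k ≠ i ∧ k ≠ j := by
          by_contra hcon
          push Not at hcon
          have h3 : (Finset.univ : Finset (Fin (finrank F U))) ⊆ {i, j} := by
            intro k _
            by_cases hki : k = i
            · simp [hki]
            · simp [hcon k hki]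
          have h4 := Finset.card_le_card h3
          rw [Finset.card_univ, Fintype.card_fin] at h4
          have h5 : ({i, j} : Finset (Fin (finrank F U))).card ≤ 2 := Finset.card_le_two
          omega
        have h2 := (key i k hk1.symm).2.2
        have h3 := (key k j hk2).2.2
        linear_combination h1 - h2 - h3
    rw [hk] at h1
    exact sub_eq_zero.1 h1
  have hs := sesq_herm (n := n) hF
  by_cases hne : Nonempty (Fin (finrank F U))
  · obtain ⟨i0⟩ := hne
    refine ⟨f (b i0) (b i0), fun x hx y hy => ?_⟩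
    have h2 : ∀ i, f (b i) (b i) = f (b i0) (b i0) := by
      intro i
      by_cases hi : i = i0
      · rw [hi]
      · exact hκ0 i i0 hi
    have hk : finrank F U = Fintype.card (Fin (finrank F U)) := by simp
    rw [eq_sum_of_orthonormal U hk hbU hb hx, eq_sum_of_orthonormal U hk hbU hb hy,
      sesq_span hf (fun i j hij => (key i j hij).1) h2, herm_orth hs hb]
  · refine ⟨0, fun x hx y hy => ?_⟩
    have hk : finrank F U = Fintype.card (Fin (finrank F U)) := by simp
    have h0 : x = 0 := by
      rw [eq_sum_of_orthonormal U hk hbU hb hx]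
      refine Finset.sum_eq_zero fun i _ => absurd ⟨i⟩ hne
    rw [h0, hf.zerol, zero_mul]

end Herm

end Cfsg.Agent.H519.AH
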