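import Mathlib
import Cfsg.Agent.H519.AH.Lin

/-!
# S2451, the unitary groups (helper519): coefficient extraction over finite fields
-/

set_option autoImplicit false
set_option linter.unusedSectionVars false

namespace Cfsg.Agent.H519.AH

open Module Cfsg Cfsg.Agent.LieClassical.HermBasic
open scoped Matrix

variable {F : Type*} [Field F] [Fintype F] {q : ℕ}

/-- the fixed field of `x ↦ x ^ q` -/
theorem exists_fixset (hF : Fintype.card F = q ^ 2) :
    ∃ S : Finset F, S.card = q ∧ ∀ x ∈ S, x ^ q = x := by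
  classical
  refine ⟨Finset.univ.filter fun x => x ^ q = x, ?_, fun x hx => (Finset.mem_filter.1 hx).2⟩
  rw [← Fintype.card_subtype, ← Nat.card_eq_fintype_card, card_fixed hF]

open Polynomial in
/-- cubic functions -/
theorem cubic_zero {a b c d : F} {S : Finset F} (hS : 4 ≤ S.card)
    (h : ∀ x ∈ S, a * x ^ 3 + b * x ^ 2 + c * x + d = 0) : b = 0 := by
  let p : F[X] := C a * X ^ 3 + C b * X ^ 2 + C c * X + C d
  have h1 : p = 0 := by
    refine Polynomial.eq_zero_of_natDegree_lt_card_of_eval_eq_zero' p S (fun x hx => ?_) ?_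
    · simpa [p] using h x hx
    · exact lt_of_le_of_lt natDegree_cubic_le (by omega)
  have := congrArg (fun f => f.coeff 2) h1
  simpa [p, coeff_X, coeff_C, coeff_X_pow] using this

open Polynomial in
/-- quartic functions -/
theorem quartic_zero {a b c d e : F} {S : Finset F} (hS : 5 ≤ S.card)
    (h : ∀ x ∈ S, e * x ^ 4 + a * x ^ 3 + b * x ^ 2 + c * x + d = 0) : b = 0 := by
  let p : F[X] := C e * X ^ 4 + C a * X ^ 3 + C b * X ^ 2 + C c * X + C d
  have h1 : p = 0 := by
    refine Polynomial.eq_zero_of_natDegree_lt_card_of_eval_eq_zero' p S (fun x hx => ?_) ?_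
    · simpa [p] using h x hx
    · refine lt_of_le_of_lt (b := 4) ?_ (by omega)
      simp only [p]
      compute_degree
  have := congrArg (fun f => f.coeff 2) h1
  simpa [p, coeff_X, coeff_C, coeff_X_pow] using this

/-- the quadratic coefficient of a quartic function on the fixed field -/
theorem coeff_two (hF : Fintype.card F = q ^ 2) (hq : 3 ≤ q) {a b c d e : F}
    (h : ∀ s : F, s ^ q = s → e * s ^ 4 + a * s ^ 3 + b * s ^ 2 + c * s + d = 0) :
    b + (if q = 3 then e else 0) = 0 := by
  obtain ⟨S, hS, hS1⟩ := exists_fixset hF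
  by_cases h3 : q = 3
  · subst h3
    rw [if_pos rfl]
    refine (quad_zero (a := b + e) (b := c + a) (c := d) (S := S) (by omega) fun x hx => ?_).1
    have h1 := hS1 x hx
    have h2 := h x h1
    linear_combination h2 - (e * x + a) * h1
  · rw [if_neg h3, add_zero]
    by_cases h4 : q = 4
    · subst h4
      refine cubic_zero (a := a) (c := c + e) (d := d) (S := S) (by omega) fun x hx => ?_
      have h1 := hS1 x hx
      have h2 := h x h1
      linear_combination h2 - e * h1
    · exact quartic_zero (S := S) (by omega) fun x hx => h x (hS1 x hx)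

/-- **The norm of a quadratic function of two parameters in the fixed field.** -/
theorem norm_two (hF : Fintype.card F = q ^ 2) (hq : 3 ≤ q) {p0 p1 p2 p11 p22 p12 κ : F}
    (h : ∀ s t : F, s ^ q = s → t ^ q = t →
      (p0 + p1 * s + p2 * t + p11 * s ^ 2 + p22 * t ^ 2 + p12 * (s * t)) *
      (p0 + p1 * s + p2 * t + p11 * s ^ 2 + p22 * t ^ 2 + p12 * (s * t)) ^ q = κ) :
    p12 * p12 ^ q + p11 * p22 ^ q + p22 * p11 ^ q = 0 := by
  have h' : ∀ s t : F, s ^ q = s → t ^ q = t →
      (p0 + p1 * s + p2 * t + p11 * s ^ 2 + p22 * t ^ 2 + p12 * (s * t)) *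
      (p0 ^ q + p1 ^ q * s + p2 ^ q * t + p11 ^ q * s ^ 2 + p22 ^ q * t ^ 2 + p12 ^ q * (s * t)) = κ := by
    intro s t hs ht
    rw [← h s t hs ht]
    congr 1
    have e2 : ∀ x : F, (x ^ 2) ^ q = (x ^ q) ^ 2 := fun x => by rw [← pow_mul, ← pow_mul, mul_comm]
    simp only [add_pow_q hF, mul_pow, e2, hs, ht]
  obtain ⟨S, hS, hS1⟩ := exists_fixset hF
  have key : ∀ t : F, t ^ q = t →
      ((p0 + p2 * t + p22 * t ^ 2) * p11 ^ q + (p1 + p12 * t) * (p1 ^ q + p12 ^ q * t) +
        p11 * (p0 ^ q + p2 ^ q * t + p22 ^ q * t ^ 2)) +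
      (if q = 3 then p11 * p11 ^ q else 0) = 0 := by
    intro t ht
    refine coeff_two hF hq (a := p11 * (p1 ^ q + p12 ^ q * t) + (p1 + p12 * t) * p11 ^ q)
      (c := (p0 + p2 * t + p22 * t ^ 2) * (p1 ^ q + p12 ^ q * t) +
        (p1 + p12 * t) * (p0 ^ q + p2 ^ q * t + p22 ^ q * t ^ 2))
      (d := (p0 + p2 * t + p22 * t ^ 2) * (p0 ^ q + p2 ^ q * t + p22 ^ q * t ^ 2) - κ) fun s hs => ?_
    linear_combination h' s t hs ht
  have h2 := (quad_zero (a := p12 * p12 ^ q + p11 * p22 ^ q + p22 * p11 ^ q)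
    (b := p2 * p11 ^ q + p12 * p1 ^ q + p1 * p12 ^ q + p11 * p2 ^ q)
    (c := p0 * p11 ^ q + p1 * p1 ^ q + p11 * p0 ^ q + (if q = 3 then p11 * p11 ^ q else 0))
    (S := S) (by omega) fun t ht => by
      linear_combination key t (hS1 t ht)).1
  exact h2

open Polynomial in
/-- **Functions of one parameter in the field.** -/
theorem one_param (hF : Fintype.card F = q ^ 2) (hq : 3 ≤ q) {c0 c1 c2 c3 c4 c5 : F}
    (h : ∀ x : F, c0 + c1 * x + c2 * x ^ q + c3 * x ^ 2 + c4 * x ^ (2 * q) + c5 * x ^ (q + 1) = 0) :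
    c3 = 0 ∧ c5 = 0 := by
  let p : F[X] := C c0 + C c1 * X + C c2 * X ^ q + C c3 * X ^ 2 + C c4 * X ^ (2 * q) + C c5 * X ^ (q + 1)
  have h1 : p = 0 := by
    refine Polynomial.eq_zero_of_natDegree_lt_card_of_eval_eq_zero' p Finset.univ (fun x _ => ?_) ?_
    · simpa [p] using h x
    · rw [Finset.card_univ, hF]
      have hd : p.natDegree ≤ 2 * q := by
        refine Polynomial.natDegree_le_iff_coeff_eq_zero.2 fun N hN => ?_
        simp only [p, coeff_add, coeff_C_mul, coeff_X_pow, coeff_X, coeff_C]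
        rw [if_neg (by omega), if_neg (by omega), if_neg (by omega), if_neg (by omega), if_neg (by omega),
          if_neg (by omega)]
        ring
      nlinarith
  constructor
  · have := congrArg (fun f => f.coeff 2) h1
    simp only [p, coeff_add, coeff_C_mul, coeff_X_pow, coeff_X, coeff_C, coeff_zero] at this
    rw [if_neg (by omega), if_neg (by omega), if_neg (by omega), if_pos trivial, if_neg (by omega),
      if_neg (by omega)] at this
    linear_combination this
  · have := congrArg (fun f => f.coeff (q + 1)) h1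
    simp only [p, coeff_add, coeff_C_mul, coeff_X_pow, coeff_X, coeff_C, coeff_zero] at this
    rw [if_neg (by omega), if_neg (by omega), if_neg (by omega), if_neg (by omega), if_neg (by omega),
      if_pos trivial] at this
    linear_combination this

end Cfsg.Agent.H519.AH
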