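import Mathlib
import Cfsg.Agent.H519.AH.Lin

/-!
# S2451, the unitary groups (helper519): subgroups with enough root elements

`Big hF K U` : the subgroup `K` of `SU_n(q)` contains the root elements of the nondegenerate subspace `U` and is
transitive on the totally isotropic frames (pairs of points) of `U`.
-/

set_option autoImplicit false
set_option linter.unusedSectionVars false

namespace Cfsg.Agent.H519.AH

open Module Cfsg Cfsg.Agent.LieClassical.HermBasic Cfsg.Agent.LieClassical.HermSiegel
open Cfsg.Agent.H105.SzU Cfsg.Agent.H105.Sz Cfsg.Agent.ClassicalGeometry.HermOrtho Cfsg.Agent.LieClassical.HermGen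
open scoped Matrix

variable {F : Type*} [Field F] [Fintype F] {n q : ℕ}

/-- totally isotropic frames of a subspace -/
structure TI (q : ℕ) (U : Submodule F (Fin n → F)) (v w : Fin n → F) : Prop where
  mv : v ∈ U
  mw : w ∈ U
  vv : hermForm n F q v v = 0
  ww : hermForm n F q w w = 0
  vw : hermForm n F q v w = 0
  ind : LinearIndependent F ![v, w]

/-- enough root elements -/
structure Big (hF : Fintype.card F = q ^ 2) (K : Subgroup (SU n F q)) (U : Submodule F (Fin n → F)) : Prop where
  nd : ND q U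
  dim : 4 ≤ finrank F U
  sieg : ∀ (u w : Fin n → F) (μ : F) (h : IsSiegel q u w μ), u ∈ U → w ∈ U → siegel hF u w μ h ∈ K
  tr : ∀ v w v' w' : Fin n → F, TI q U v w → TI q U v' w' → ∃ g ∈ K, ∃ c d : F, c ≠ 0 ∧ d ≠ 0 ∧
    act g v = c • v' ∧ act g w = d • w'

theorem TI.wv (hF : Fintype.card F = q ^ 2) {U : Submodule F (Fin n → F)} {v w : Fin n → F} (h : TI q U v w) :
    hermForm n F q w v = 0 := herm_eq_zero_swap hF h.vw

theorem TI.v0 {U : Submodule F (Fin n → F)} {v w : Fin n → F} (h : TI q U v w) : v ≠ 0 := h.ind.ne_zero 0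

theorem TI.w0 {U : Submodule F (Fin n → F)} {v w : Fin n → F} (h : TI q U v w) : w ≠ 0 := h.ind.ne_zero 1

/-- transvecting a frame -/
theorem TI.add (hF : Fintype.card F = q ^ 2) {U : Submodule F (Fin n → F)} {v w : Fin n → F} (h : TI q U v w) (x : F) :
    TI q U v (w + x • v) where
  mv := h.mv
  mw := U.add_mem h.mw (U.smul_mem _ h.mv)
  vv := h.vv
  ww := by
    rw [herm_add_left, herm_add_right hF, herm_add_right hF, herm_smul_left, herm_smul_left, herm_smul_right,
      herm_smul_right, h.ww, h.vv, h.vw, h.wv hF]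
    ring
  vw := by
    rw [herm_add_right hF, herm_smul_right, h.vw, h.vv]
    ring
  ind := by
    have h1 := h.ind
    rw [LinearIndependent.pair_iff] at h1 ⊢
    intro s t hst
    have h2 := h1 (s + t * x) t (by rw [← hst]; module)
    exact ⟨by simpa [h2.2] using h2.1, h2.2⟩

/-- intersecting with the orthogonal complement of `m` vectors -/
theorem finrank_inf_perp (U : Submodule F (Fin n → F)) {m : ℕ} (e : Fin m → (Fin n → F)) :
    finrank F U ≤ finrank F (U ⊓ hermPerp q (Set.range e) : Submodule F (Fin n → F)) + m := by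
  let φ : U →ₗ[F] (Fin m → F) := LinearMap.pi fun i => (hermLeft q (e i)).comp U.subtype
  have h1 := LinearMap.finrank_range_add_finrank_ker φ
  have h2 := (LinearMap.range φ).finrank_le
  rw [Module.finrank_fin_fun] at h2
  have h3 : finrank F (LinearMap.ker φ) = finrank F (U ⊓ hermPerp q (Set.range e) : Submodule F (Fin n → F)) := by
    have h4 : (U ⊓ hermPerp q (Set.range e) : Submodule F (Fin n → F)) = (LinearMap.ker φ).map U.subtype := by
      ext w
      rw [Submodule.mem_inf, Submodule.mem_map, mem_hermPerp]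
      constructor
      · rintro ⟨hw, hw'⟩
        refine ⟨⟨w, hw⟩, ?_, rfl⟩
        rw [LinearMap.mem_ker]
        funext i
        exact hw' _ ⟨i, rfl⟩
      · rintro ⟨w', hw', rfl⟩
        rw [LinearMap.mem_ker] at hw'
        refine ⟨w'.2, ?_⟩
        rintro _ ⟨i, rfl⟩
        exact congrFun hw' i
    rw [h4]
    exact LinearEquiv.finrank_eq (Submodule.equivMapOfInjective U.subtype U.injective_subtype _)
  omega

/-- a hyperbolic partner in a nondegenerate subspace -/
theorem exists_partner_mem (hF : Fintype.card F = q ^ 2) {U : Submodule F (Fin n → F)} (hU : ND q U) {v : Fin n → F}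
    (hvU : v ∈ U) (hv0 : v ≠ 0) (hv : hermForm n F q v v = 0) :
    ∃ f ∈ U, hermForm n F q f f = 0 ∧ hermForm n F q v f = 1 := by
  obtain ⟨x, hxU, hx⟩ : ∃ x ∈ U, hermForm n F q v x ≠ 0 := by
    by_contra hcon
    push Not at hcon
    exact hv0 (hU v hvU hcon)
  obtain ⟨t, ht⟩ := exists_iso_correct hF hv hx
  set f0 := x + t • v with hf0
  have hf1 : hermForm n F q v f0 = hermForm n F q v x := by
    rw [hf0, herm_add_right hF, herm_smul_right, hv, mul_zero, add_zero]
  refine ⟨((hermForm n F q v f0)⁻¹) ^ q • f0, U.smul_mem _ (U.add_mem hxU (U.smul_mem _ hvU)), ?_, ?_⟩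
  · rw [herm_smul_right, herm_smul_left, ht, mul_zero, mul_zero]
  · rw [herm_smul_right, pow_q_pow_q hF, inv_mul_cancel₀ (by rw [hf1]; exact hx)]

/-- the orthogonal complement of a hyperbolic pair is nondegenerate -/
theorem nd_hyp (hF : Fintype.card F = q ^ 2) {U : Submodule F (Fin n → F)} (hU : ND q U) {v f : Fin n → F}
    (hvU : v ∈ U) (hfU : f ∈ U) (hv : hermForm n F q v v = 0) (hf : hermForm n F q f f = 0)
    (hvf : hermForm n F q v f = 1) : ND q (U ⊓ hermPerp q (Set.range ![v, f]) : Submodule F (Fin n → F)) := by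
  have hfv : hermForm n F q f v = 1 := by rw [herm_swap hF v f, hvf, one_pow]
  have hmem : ∀ x : Fin n → F, x ∈ (U ⊓ hermPerp q (Set.range ![v, f]) : Submodule F (Fin n → F)) ↔
      x ∈ U ∧ hermForm n F q x v = 0 ∧ hermForm n F q x f = 0 := by
    intro x
    rw [Submodule.mem_inf, mem_hermPerp]
    simp only [Matrix.range_cons, Matrix.range_empty, Set.union_empty, Set.mem_union, Set.mem_singleton_iff,
      forall_eq_or_imp, forall_eq]
  intro u hu h
  refine hU u ((hmem u).1 hu).1 fun x hx => ?_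
  have h1 := h (x - hermForm n F q x f • v - hermForm n F q x v • f) (by
    rw [hmem]
    refine ⟨U.sub_mem (U.sub_mem hx (U.smul_mem _ hvU)) (U.smul_mem _ hfU), ?_, ?_⟩
    · rw [herm_sub_left, herm_sub_left, herm_smul_left, herm_smul_left, hv, hfv]; ring
    · rw [herm_sub_left, herm_sub_left, herm_smul_left, herm_smul_left, hf, hvf]; ring)
  rw [herm_sub_right hF, herm_sub_right hF, herm_smul_right, herm_smul_right, ((hmem u).1 hu).2.1,
    ((hmem u).1 hu).2.2] at h1
  simpa using h1

/-- completing an isotropic vector to a frame, with a partner of the second vector -/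
theorem exists_frame (hF : Fintype.card F = q ^ 2) {U : Submodule F (Fin n → F)} (hU : ND q U)
    (hd : 4 ≤ finrank F U) {v : Fin n → F} (hvU : v ∈ U) (hv0 : v ≠ 0) (hv : hermForm n F q v v = 0) :
    ∃ w, TI q U v w := by
  obtain ⟨f, hfU, hf, hvf⟩ := exists_partner_mem hF hU hvU hv0 hv
  have h1 := finrank_inf_perp (q := q) U ![v, f]
  obtain ⟨w, hwU, hw0, hw⟩ := exists_iso hF (U ⊓ hermPerp q (Set.range ![v, f]) : Submodule F (Fin n → F)) (by omega)
  have hmem : w ∈ U ∧ hermForm n F q w v = 0 ∧ hermForm n F q w f = 0 := by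
    rw [Submodule.mem_inf, mem_hermPerp] at hwU
    exact ⟨hwU.1, hwU.2 _ ⟨0, rfl⟩, hwU.2 _ ⟨1, rfl⟩⟩
  refine ⟨w, hvU, hmem.1, hv, hw, herm_eq_zero_swap hF hmem.2.1, ?_⟩
  rw [indep_iff hv0 hw0]
  rintro ⟨c, rfl⟩
  rw [herm_smul_left, hmem.2.2, mul_zero] at hvf
  exact zero_ne_one hvf

/-- a partner of the second vector of a frame, orthogonal to the first -/
theorem TI.exists_f (hF : Fintype.card F = q ^ 2) {U : Submodule F (Fin n → F)} (hU : ND q U) {v w : Fin n → F}
    (h : TI q U v w) : ∃ f ∈ U, hermForm n F q f f = 0 ∧ hermForm n F q w f = 1 ∧ hermForm n F q v f = 0 := by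
  -- a vector of `U` orthogonal to `v` but not to `w`
  obtain ⟨x, hxU, hx1, hx2⟩ : ∃ x ∈ U, hermForm n F q v x = 0 ∧ hermForm n F q w x ≠ 0 := by
    by_contra hcon
    push Not at hcon
    obtain ⟨y, hyU, hy⟩ : ∃ y ∈ U, hermForm n F q v y ≠ 0 := by
      by_contra hc
      push Not at hc
      exact h.v0 (hU v h.mv hc)
    have h2 : (hermForm n F q w y / hermForm n F q v y) • v - w = 0 := by
      refine hU _ (U.sub_mem (U.smul_mem _ h.mv) h.mw) fun x hx => ?_
      have h2 := hcon (x - ((hermForm n F q v x) / hermForm n F q v y) ^ q • y)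
        (U.sub_mem hx (U.smul_mem _ hyU)) (by
        rw [herm_sub_right hF, herm_smul_right, pow_q_pow_q hF, div_mul_cancel₀ _ hy, sub_self])
      rw [herm_sub_right hF, herm_smul_right, pow_q_pow_q hF] at h2
      rw [herm_sub_left, herm_smul_left]
      field_simp
      field_simp at h2
      linear_combination -h2
    have h3 := h.ind
    rw [LinearIndependent.pair_iff] at h3
    have h4 := (h3 (hermForm n F q w y / hermForm n F q v y) (-1) (by
      rw [neg_smul, one_smul, ← sub_eq_add_neg]; exact h2)).2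
    exact one_ne_zero (neg_eq_zero.1 h4)
  obtain ⟨t, ht⟩ := exists_iso_correct hF h.ww hx2
  set f0 := x + t • w with hf0
  have hf1 : hermForm n F q w f0 = hermForm n F q w x := by
    rw [hf0, herm_add_right hF, herm_smul_right, h.ww, mul_zero, add_zero]
  refine ⟨((hermForm n F q w f0)⁻¹) ^ q • f0, U.smul_mem _ (U.add_mem hxU (U.smul_mem _ h.mw)), ?_, ?_, ?_⟩
  · rw [herm_smul_right, herm_smul_left, ht, mul_zero, mul_zero]
  · rw [herm_smul_right, pow_q_pow_q hF, inv_mul_cancel₀ (by rw [hf1]; exact hx2)]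
  · have h5 : hermForm n F q v f0 = 0 := by
      rw [hf0, herm_add_right hF, herm_smul_right, hx1, h.vw]
      ring
    rw [herm_smul_right, h5, mul_zero]

theorem ND_top (hF : Fintype.card F = q ^ 2) : ND q (⊤ : Submodule F (Fin n → F)) :=
  fun _ _ h => herm_nondeg hF fun v => h v trivial

/-- the whole group -/
theorem big_top (hF : Fintype.card F = q ^ 2) (hn : 4 ≤ n) : Big hF (⊤ : Subgroup (SU n F q)) ⊤ where
  nd := ND_top hF
  dim := by rw [finrank_top, finrank_fin_fun]; exact hn
  sieg := fun _ _ _ _ _ _ => trivial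
  tr := fun v w v' w' h h' => by
    obtain ⟨g, ⟨k, rfl⟩, ⟨c, hc⟩, d, hd⟩ := exists_map_perp hF h.vv h.ww h'.vv h'.ww h.ind h'.ind h.vw h'.vw
    rw [rhoU_apply] at hc hd
    refine ⟨k, trivial, c, d, ?_, ?_, hc, hd⟩
    · rintro rfl
      rw [zero_smul, act_eq_zero] at hc
      exact h.v0 hc
    · rintro rfl
      rw [zero_smul, act_eq_zero] at hd
      exact h.w0 hd

end Cfsg.Agent.H519.AH
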