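import Mathlib
import Cfsg.Agent.H519.AH.Reg
import Cfsg.Agent.ClassicalGeometry.UnitTransv

/-!
# S2451, the unitary groups (helper519): `q = 2`, the regular case

For `n ≥ 4` there are no `2`-regular `a, b, c ≠ 1` in `PSU_n(2)` with `a ^ g b ^ h ~ c` for all `g, h`.
-/

set_option autoImplicit false
set_option linter.unusedSectionVars false

namespace Cfsg.Agent.H519.AH

open Module Cfsg Cfsg.Agent.LieClassical.HermBasic Cfsg.Agent.LieClassical.HermSiegel
open Cfsg.Agent.H105.SzU Cfsg.Agent.H105.Sz Cfsg.Agent.ClassicalGeometry.HermOrtho Cfsg.Agent.LieClassical.HermGen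
open Cfsg.Agent.ClassicalGeometry.UnitAutBasic Cfsg.Agent.H330.ClassProd Cfsg.Agent.H27.AH
open Cfsg.Agent.ClassicalGeometry.UnitTransv (rankOne rankOne_mulVec det_rankOne)
open scoped Matrix

variable {F : Type*} [Field F] [Fintype F] {n : ℕ}

/-- `q = 2` : every nonzero scalar has norm one -/
theorem norm_one_two (hF : Fintype.card F = 2 ^ 2) {c : F} (hc : c ≠ 0) : c * c ^ 2 = 1 := by
  have h := FiniteField.pow_card_sub_one_eq_one c hc
  rw [hF] at h
  rw [← pow_succ']
  exact h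

theorem cube_two (hF : Fintype.card F = 2 ^ 2) {c : F} (hc : c ≠ 0) : c ^ 3 = 1 := by
  rw [pow_succ']
  exact norm_one_two hF hc

theorem pow_n_two (hF : Fintype.card F = 2 ^ 2) (h3 : 3 ∣ n) {c : F} (hc : c ≠ 0) : c ^ n = 1 := by
  obtain ⟨m, rfl⟩ := h3
  rw [pow_mul, cube_two hF hc, one_pow]

/-- special elements are scalars, `3 ∣ n`, `q = 2` -/
theorem not_spec (hF : Fintype.card F = 2 ^ 2) (h3 : 3 ∣ n) {a : SU n F 2} (h1 : pr n F 2 a ≠ 1) : ¬ Spec a := by
  rintro ⟨l, μ, w, hw, hl, ha⟩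
  have hl0 : l ≠ 0 := left_ne_zero_of_mul_eq_one hl
  have h2 : mat a = l • rankOne 2 ((μ / l) • w) w := by
    apply mat_ext
    intro x
    rw [Matrix.smul_mulVec, rankOne_mulVec, smul_add, smul_smul, smul_smul]
    change act a x = _
    rw [ha]
    congr 2
    field_simp
  have h4 := congrArg Matrix.det h2
  rw [det_mat, Matrix.det_smul, Fintype.card_fin, pow_n_two hF h3 hl0, one_mul, det_rankOne, herm_smul_left,
    left_eq_add, mul_eq_zero, div_eq_zero_iff] at h4
  have h5 : μ = 0 := by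
    rcases h4 with (h4 | h4) | h4
    · exact h4
    · exact absurd h4 hl0
    · exact absurd h4 hw
  apply h1
  have h6 : ∀ x : Fin n → F, act a x = l • act (1 : SU n F 2) x := by
    intro x
    rw [ha, h5, zero_mul, zero_smul, add_zero, act_one]
  rw [← pr_eq_of_scalar h6, map_one]

theorem charP_two (hF : Fintype.card F = 2 ^ 2) : CharP F 2 := by
  obtain ⟨p, hp⟩ := CharP.exists F
  obtain ⟨k, hp1, hk⟩ := FiniteField.card F p
  rw [hF] at hk
  have h1 : p ∣ 2 ^ 2 := by rw [hk]; exact dvd_pow_self p k.pos.ne'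
  have h2 := (Nat.prime_dvd_prime_iff_eq hp1 Nat.prime_two).1 (hp1.dvd_of_dvd_pow h1)
  rwa [h2] at hp

theorem ker_pr : (pr n F 2).ker = Subgroup.center (SU n F 2) := QuotientGroup.ker_mk' _

/-- the kernel has odd order -/
theorem not_two_dvd_ker (hF : Fintype.card F = 2 ^ 2) (hn : 3 ≤ n) : ¬ 2 ∣ Nat.card (pr n F 2).ker := by
  intro h
  have : Fact (Nat.Prime 2) := ⟨Nat.prime_two⟩
  obtain ⟨z, hz⟩ := exists_prime_orderOf_dvd_card' 2 h
  have h1 : (z : SU n F 2) ∈ Subgroup.center (SU n F 2) := by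
    exact (SetLike.ext_iff.1 (ker_pr (n := n) (F := F)) _).1 z.2
  obtain ⟨c, hc, hx⟩ := exists_scalar_of_mem_center hF hn h1
  have hc0 : c ≠ 0 := left_ne_zero_of_mul_eq_one hc
  have h2 : (z : SU n F 2) ^ 3 = 1 := by
    apply ext_act
    intro x
    rw [pow_succ, pow_succ, pow_one, act_mul, act_mul, hx, hx, hx, smul_smul, smul_smul, act_one,
      show c * c * c = c ^ 3 by ring, cube_two hF hc0, one_smul]
  have h3 : z ^ 3 = 1 := Subtype.ext h2
  have h4 := orderOf_dvd_of_pow_eq_one h3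
  rw [hz] at h4
  omega

/-- the stabiliser of a pair of vectors -/
def fixPair (v w : Fin n → F) (q : ℕ) : Subgroup (SU n F q) where
  carrier := {x | act x v = v ∧ act x w = w}
  mul_mem' := fun {x y} hx hy => ⟨by rw [act_mul, hy.1, hx.1], by rw [act_mul, hy.2, hx.2]⟩
  one_mem' := ⟨act_one _, act_one _⟩
  inv_mem' := fun {x} hx => ⟨by
    have h := act_inv_act x v
    rwa [hx.1] at h, by
    have h := act_inv_act x w
    rwa [hx.2] at h⟩

theorem mem_fixPair {v w : Fin n → F} {q : ℕ} {x : SU n F q} : x ∈ fixPair v w q ↔ act x v = v ∧ act x w = w :=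
  Iff.rfl

/-- an involution transvecting a frame -/
theorem exists_invol (hF : Fintype.card F = 2 ^ 2) [CharP F 2] {v w : Fin n → F} (h : TI 2 ⊤ v w) :
    ∃ g : SU n F 2, act g v = v ∧ act g w = w + v ∧ g ^ 2 = 1 := by
  obtain ⟨f, hfU, hff, hwf, hvf⟩ := h.exists_f hF (ND_top hF)
  have hs : IsSiegel 2 f v (0 : F) := by
    refine ⟨hff, hvf, ?_⟩
    rw [h.vv]
    ring
  refine ⟨siegel hF f v 0 hs, ?_, ?_, ?_⟩
  · rw [act_siegel, hvf, h.vv]
    simp
  · rw [act_siegel, hwf, h.wv hF]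
    simp
  · have hfv : hermForm n F 2 f v = 0 := herm_eq_zero_swap hF hvf
    apply ext_act
    intro x
    rw [pow_two, act_mul, act_one]
    have h1 : act (siegel hF f v 0 hs) f = f := by rw [act_siegel, hff, hfv]; simp
    have h2 : act (siegel hF f v 0 hs) v = v := by rw [act_siegel, hvf, h.vv]; simp
    have h3 := act_siegel hF hs x
    rw [h3, act_add, act_add, act_smul, act_smul, h1, h2, h3]
    have h4 : ∀ y : Fin n → F, y + y = 0 := fun y => by
      ext i
      exact CharTwo.add_self_eq_zero _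
    have e : ∀ y z : Fin n → F, x + y + z + y + z = x + (y + y) + (z + z) := fun y z => by abel
    rw [e, h4, h4, add_zero, add_zero]

/-- **(A) for `q = 2`**, `3 ∣ n` -/
theorem notA_two_dvd (hF : Fintype.card F = 2 ^ 2) (hn : 4 ≤ n) (h3 : 3 ∣ n)
    (hS : FixBN.HasSplit 2 (PSU n F 2)) : NotA 2 (PSU n F 2) := by
  have : Fact (Nat.Prime 2) := ⟨Nat.prime_two⟩
  have : CharP F 2 := charP_two hF
  obtain ⟨v, w, hvw⟩ := exists_iso_ne (n := n) hF hn
  obtain ⟨g, hg1, hg2, hg3⟩ := exists_invol hF hvw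
  refine H330.ClassSub.notA_of_linear hS pr_surjective (by rw [ker_pr]) (not_two_dvd_ker hF (by omega))
    (H := fixPair v w 2) (g := g) ?_ ⟨1, by simpa using hg3⟩ ?_ ?_
  · intro h
    have h1 := h.2
    rw [hg2, add_eq_left] at h1
    exact hvw.v0 h1
  · intro x hx
    have h1 : act g⁻¹ v = v := by
      have := act_inv_act g v
      rwa [hg1] at this
    have h2 : act g⁻¹ w = w - v := by
      have := act_inv_act g w
      rw [hg2, act_add, h1] at this
      exact eq_sub_of_add_eq this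
    rw [mem_fixPair] at hx ⊢
    constructor
    · rw [act_mul, act_mul, h1, hx.1, hg1]
    · rw [act_mul, act_mul, h2, act_sub, hx.1, hx.2, act_sub, hg1, hg2, add_sub_cancel_right]
  · intro a ha ha1 X hX hXa
    obtain ⟨v', w', h', hfix⟩ := exists_frame_fixed (p := 2) hF hn ha ha1 (not_spec hF h3 ha1) hX hXa
    obtain ⟨k, -, c, d, hc, hd, hk1, hk2⟩ := (big_top hF hn).tr v' w' v w h' hvw
    refine ⟨k, fun x hx => ?_⟩
    have e1 : v = c⁻¹ • act k v' := by rw [hk1, smul_smul, inv_mul_cancel₀ hc, one_smul]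
    have e2 : w = d⁻¹ • act k w' := by rw [hk2, smul_smul, inv_mul_cancel₀ hd, one_smul]
    rw [mem_fixPair]
    constructor
    · conv_lhs => rw [e1]
      rw [act_smul, act_mul, act_mul, act_inv_act, (hfix x hx).1, ← e1]
    · conv_lhs => rw [e2]
      rw [act_smul, act_mul, act_mul, act_inv_act, (hfix x hx).2, ← e2]

end Cfsg.Agent.H519.AH
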