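import Mathlib
import Cfsg.Agent.H519.AH.Move
import Cfsg.Agent.H519.AH.Ext

/-!
# S2451, the unitary groups (helper519): the trace of `a b ^ g`

If the trace of `a b ^ g` is constant (`TC`), or its norm is constant and `3 ≤ q` (`NC`), for `g` in a subgroup with
enough root elements of `U`, then one of `h(a v, v)`, `h(b v, v)` vanishes on the isotropic vectors of `U`.
-/

set_option autoImplicit false
set_option linter.unusedSectionVars false

namespace Cfsg.Agent.H519.AH

open Module Cfsg Cfsg.Agent.LieClassical.HermBasic Cfsg.Agent.LieClassical.HermSiegel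
open Cfsg.Agent.H105.SzU Cfsg.Agent.H105.Sz Cfsg.Agent.ClassicalGeometry.HermOrtho Cfsg.Agent.LieClassical.HermGen
open scoped Matrix

variable {F : Type*} [Field F] [Fintype F] {n q : ℕ}

/-- the trace of a product -/
def T (a b : SU n F q) : F := (mat a * mat b).trace

/-- constant trace -/
def TC (K : Subgroup (SU n F q)) (a b : SU n F q) (κ : F) : Prop := ∀ g ∈ K, T a (g * b * g⁻¹) = κ

/-- constant norm of the trace -/
def NC (K : Subgroup (SU n F q)) (a b : SU n F q) (κ : F) : Prop :=
  ∀ g ∈ K, T a (g * b * g⁻¹) * T a (g * b * g⁻¹) ^ q = κ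

theorem TC.conj {K : Subgroup (SU n F q)} {a b : SU n F q} {κ : F} (h : TC K a b κ) {k : SU n F q} (hk : k ∈ K) :
    TC K a (k * b * k⁻¹) κ := by
  intro g hg
  have := h (g * k) (K.mul_mem hg hk)
  rwa [show g * k * b * (g * k)⁻¹ = g * (k * b * k⁻¹) * g⁻¹ by group] at this

theorem NC.conj {K : Subgroup (SU n F q)} {a b : SU n F q} {κ : F} (h : NC K a b κ) {k : SU n F q} (hk : k ∈ K) :
    NC K a (k * b * k⁻¹) κ := by
  intro g hg
  have := h (g * k) (K.mul_mem hg hk)
  rwa [show g * k * b * (g * k)⁻¹ = g * (k * b * k⁻¹) * g⁻¹ by group] at this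

theorem mat_inv_of {x : SU n F q} {N : Matrix (Fin n) (Fin n) F} (h : mat x = 1 + N) (hN : N * N = 0) :
    mat x⁻¹ = 1 - N := by
  have h1 : mat x * (1 - N) = 1 := by
    rw [h, mul_sub, mul_one, add_mul, one_mul, hN]
    abel
  calc mat x⁻¹ = mat x⁻¹ * (mat x * (1 - N)) := by rw [h1, mul_one]
    _ = mat (x⁻¹ * x) * (1 - N) := by rw [mat_mul, mul_assoc]
    _ = 1 - N := by rw [inv_mul_cancel, mat_one, one_mul]

/-- the trace after conjugation with a root element -/
theorem T_conj (a b : SU n F q) {x : SU n F q} {N : Matrix (Fin n) (Fin n) F} (h : mat x = 1 + N) (hN : N * N = 0) :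
    T a (x * b * x⁻¹) = T a b + (mat a * N * mat b).trace - (mat a * mat b * N).trace -
      (mat a * N * (mat b * N)).trace := by
  rw [T, T, mat_mul, mat_mul, mat_inv_of h hN, h]
  rw [← Matrix.trace_add, ← Matrix.trace_sub, ← Matrix.trace_sub]
  congr 1
  noncomm_ring

theorem trace_two (A B : Matrix (Fin n) (Fin n) F) (v w : Fin n → F) :
    (A * E q v w * B).trace = hermForm n F q (B *ᵥ (A *ᵥ v)) w := by
  rw [Matrix.trace_mul_comm, ← mul_assoc, mul_E, trace_E, Matrix.mulVec_mulVec]

/-- the two-parameter formula -/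
theorem T_tt (a b : SU n F q) {x : SU n F q} {v w : Fin n → F} {σ τ : F}
    (h : mat x = 1 + (σ • E q v v + τ • E q w w)) (hvv : hermForm n F q v v = 0) (hww : hermForm n F q w w = 0)
    (hvw : hermForm n F q v w = 0) (hwv : hermForm n F q w v = 0) :
    T a (x * b * x⁻¹) = T a b +
      σ * (hermForm n F q (act b (act a v)) v - hermForm n F q (act a (act b v)) v) +
      τ * (hermForm n F q (act b (act a w)) w - hermForm n F q (act a (act b w)) w) -
      σ ^ 2 * (hermForm n F q (act a v) v * hermForm n F q (act b v) v) -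
      τ ^ 2 * (hermForm n F q (act a w) w * hermForm n F q (act b w) w) -
      (σ * τ) * (hermForm n F q (act a v) w * hermForm n F q (act b w) v +
        hermForm n F q (act a w) v * hermForm n F q (act b v) w) := by
  have hN : (σ • E q v v + τ • E q w w) * (σ • E q v v + τ • E q w w) = 0 := by
    simp only [add_mul, mul_add, Matrix.smul_mul, Matrix.mul_smul, E_mul_E, hvv, hww, hvw, hwv, zero_smul, smul_zero,
      add_zero]
  rw [T_conj a b h hN]
  have e1 : (mat a * (σ • E q v v + τ • E q w w) * mat b).trace =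
      σ * hermForm n F q (act b (act a v)) v + τ * hermForm n F q (act b (act a w)) w := by
    rw [mul_add, add_mul, Matrix.trace_add, Matrix.mul_smul, Matrix.mul_smul, Matrix.smul_mul, Matrix.smul_mul,
      Matrix.trace_smul, Matrix.trace_smul, trace_two, trace_two]
    rfl
  have e2 : (mat a * mat b * (σ • E q v v + τ • E q w w)).trace =
      σ * hermForm n F q (act a (act b v)) v + τ * hermForm n F q (act a (act b w)) w := by
    rw [mul_add, Matrix.trace_add, Matrix.mul_smul, Matrix.mul_smul, Matrix.trace_smul, Matrix.trace_smul, mul_E,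
      mul_E, trace_E, trace_E, ← Matrix.mulVec_mulVec, ← Matrix.mulVec_mulVec]
    rfl
  have e3 : (mat a * (σ • E q v v + τ • E q w w) * (mat b * (σ • E q v v + τ • E q w w))).trace =
      σ ^ 2 * (hermForm n F q (act a v) v * hermForm n F q (act b v) v) +
      τ ^ 2 * (hermForm n F q (act a w) w * hermForm n F q (act b w) w) +
      (σ * τ) * (hermForm n F q (act a v) w * hermForm n F q (act b w) v +
        hermForm n F q (act a w) v * hermForm n F q (act b v) w) := by
    simp only [mul_add, add_mul, Matrix.mul_smul, Matrix.smul_mul, Matrix.trace_add, Matrix.trace_smul, trace_four,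
      smul_eq_mul]
    simp only [← act_def]
    ring
  rw [e1, e2, e3]
  ring

theorem mat_siegel_zero (hF : Fintype.card F = q ^ 2) {v : Fin n → F} {c : F} (h : IsSiegel q v 0 c) :
    mat (siegel hF v 0 c h) = 1 + c • E q v v := by
  rw [siegel, mat_mkSU, siegelMat, E]
  congr 1
  ext i j
  simp only [Matrix.add_apply, Matrix.vecMulVec_apply, Matrix.smul_apply, Pi.zero_apply, zero_mul, zero_add,
    zero_pow_q hF, sub_zero, smul_eq_mul]
  ring

/-- the root elements of a frame -/
theorem exists_tt (hF : Fintype.card F = q ^ 2) {K : Subgroup (SU n F q)} {U : Submodule F (Fin n → F)}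
    (hB : Big hF K U) {v w : Fin n → F} (h : TI q U v w) {σ τ : F} (hσ : σ + σ ^ q = 0) (hτ : τ + τ ^ q = 0) :
    ∃ x ∈ K, mat x = 1 + (σ • E q v v + τ • E q w w) := by
  have h1 : IsSiegel q v 0 σ := ⟨h.vv, herm_zero_left _, by rw [herm_zero_left, hσ, add_zero]⟩
  have h2 : IsSiegel q w 0 τ := ⟨h.ww, herm_zero_left _, by rw [herm_zero_left, hτ, add_zero]⟩
  refine ⟨siegel hF v 0 σ h1 * siegel hF w 0 τ h2,
    K.mul_mem (hB.sieg _ _ _ _ h.mv U.zero_mem) (hB.sieg _ _ _ _ h.mw U.zero_mem), ?_⟩
  rw [mat_mul, mat_siegel_zero, mat_siegel_zero, mul_add, mul_one, add_mul, one_mul, Matrix.smul_mul, Matrix.mul_smul,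
    E_mul_E, h.wv hF, zero_smul, smul_zero, smul_zero, add_zero, add_assoc]

/-- transvecting a frame inside `K` -/
theorem Big.exists_k {hF : Fintype.card F = q ^ 2} {K : Subgroup (SU n F q)} {U : Submodule F (Fin n → F)}
    (hB : Big hF K U) {v w : Fin n → F} (h : TI q U v w) (x : F) :
    ∃ k ∈ K, act k v = v ∧ act k w = w + x • v := by
  obtain ⟨f, hfU, hff, hwf, hvf⟩ := h.exists_f hF hB.nd
  have hs : IsSiegel q f (x • v) 0 := by
    refine ⟨hff, ?_, ?_⟩
    · rw [herm_smul_left, hvf, mul_zero]
    · rw [herm_smul_left, herm_smul_right, h.vv, zero_pow_q hF]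
      ring
  refine ⟨siegel hF f (x • v) 0 hs, hB.sieg _ _ _ _ hfU (U.smul_mem _ h.mv), ?_, ?_⟩
  · rw [act_siegel, hvf, herm_smul_right, h.vv]
    simp
  · rw [act_siegel, hwf, herm_smul_right, h.wv hF]
    simp

variable {a b : SU n F q} {κ : F} {K : Subgroup (SU n F q)} {U : Submodule F (Fin n → F)}

/-- the frame equation, constant trace -/
theorem frame_trace {hF : Fintype.card F = q ^ 2} (hB : Big hF K U) (h : TC K a b κ) {v w : Fin n → F}
    (hf : TI q U v w) : hermForm n F q (act a v) w * hermForm n F q (act b w) v +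
        hermForm n F q (act a w) v * hermForm n F q (act b v) w = 0 := by
  obtain ⟨c, hc0, hc⟩ := exists_trace_zero_ne hF
  have h0 : (0 : F) + 0 ^ q = 0 := by rw [zero_pow_q hF, add_zero]
  obtain ⟨x1, hx1, e1⟩ := exists_tt hF hB hf hc hc
  obtain ⟨x2, hx2, e2⟩ := exists_tt hF hB hf hc h0
  obtain ⟨x3, hx3, e3⟩ := exists_tt hF hB hf h0 hc
  have k1 := T_tt a b e1 hf.vv hf.ww hf.vw (hf.wv hF)
  have k2 := T_tt a b e2 hf.vv hf.ww hf.vw (hf.wv hF)
  have k3 := T_tt a b e3 hf.vv hf.ww hf.vw (hf.wv hF)
  have k4 := h 1 K.one_mem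
  rw [one_mul, inv_one, mul_one] at k4
  rw [h x1 hx1, k4] at k1
  rw [h x2 hx2, k4] at k2
  rw [h x3 hx3, k4] at k3
  have hc2 : c ^ 2 ≠ 0 := pow_ne_zero _ hc0
  apply mul_left_cancel₀ hc2
  linear_combination k1 - k2 - k3

/-- the frame equation, constant norm -/
theorem frame_norm {hF : Fintype.card F = q ^ 2} (hq : 3 ≤ q) (hB : Big hF K U) (h : NC K a b κ) {v w : Fin n → F}
    (hf : TI q U v w) :
    (hermForm n F q (act a v) w * hermForm n F q (act b w) v +
        hermForm n F q (act a w) v * hermForm n F q (act b v) w) *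
      (hermForm n F q (act a v) w * hermForm n F q (act b w) v +
        hermForm n F q (act a w) v * hermForm n F q (act b v) w) ^ q +
      (hermForm n F q (act a v) v * hermForm n F q (act b v) v) *
        (hermForm n F q (act a w) w * hermForm n F q (act b w) w) ^ q +
      (hermForm n F q (act a w) w * hermForm n F q (act b w) w) *
        (hermForm n F q (act a v) v * hermForm n F q (act b v) v) ^ q = 0 := by
  obtain ⟨c, hc0, hc⟩ := exists_trace_zero_ne hF
  have key := norm_two hF hq (p0 := T a b)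
    (p1 := c * (hermForm n F q (act b (act a v)) v - hermForm n F q (act a (act b v)) v))
    (p2 := c * (hermForm n F q (act b (act a w)) w - hermForm n F q (act a (act b w)) w))
    (p11 := - c ^ 2 * (hermForm n F q (act a v) v * hermForm n F q (act b v) v))
    (p22 := - c ^ 2 * (hermForm n F q (act a w) w * hermForm n F q (act b w) w))
    (p12 := - c ^ 2 * (hermForm n F q (act a v) w * hermForm n F q (act b w) v +
        hermForm n F q (act a w) v * hermForm n F q (act b v) w)) (κ := κ) (by
    intro s t hs ht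
    obtain ⟨x, hx, ex⟩ := exists_tt hF hB hf (σ := c * s) (τ := c * t)
      (by rw [mul_pow, hs]; linear_combination s * hc) (by rw [mul_pow, ht]; linear_combination t * hc)
    have k1 := T_tt a b ex hf.vv hf.ww hf.vw (hf.wv hF)
    have k2 := h x hx
    rw [k1] at k2
    rw [← k2]
    congr 1
    · ring
    · congr 1
      ring)
  have hc2 : (- c ^ 2) * (- c ^ 2) ^ q ≠ 0 := by
    have h1 : - c ^ 2 ≠ 0 := neg_ne_zero.2 (pow_ne_zero _ hc0)
    exact mul_ne_zero h1 (pow_ne_zero _ h1)
  apply mul_left_cancel₀ hc2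
  rw [mul_zero, ← key]
  simp only [mul_pow]
  ring

theorem herm_conj (k b : SU n F q) (y z : Fin n → F) :
    hermForm n F q (act (k * b * k⁻¹) (act k y)) (act k z) = hermForm n F q (act b y) z := by
  rw [act_mul, act_mul, act_inv_act, herm_act]

/-- the equations for the transvected frames: constant trace -/
theorem frame_trace_x {hF : Fintype.card F = q ^ 2} (hB : Big hF K U) (h : TC K a b κ) {v w : Fin n → F}
    (hf : TI q U v w) (x : F) :
    (hermForm n F q (act a v) w + x ^ q * hermForm n F q (act a v) v) * hermForm n F q (act b w) v +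
      (hermForm n F q (act a w) v + x * hermForm n F q (act a v) v) * hermForm n F q (act b v) w = 0 := by
  obtain ⟨k, hk, hkv, hkw⟩ := hB.exists_k hf x
  have h1 := frame_trace hB (h.conj hk) (hf.add hF x)
  have e1 := herm_conj k b w v
  have e2 := herm_conj k b v w
  rw [hkv, hkw] at e1 e2
  rw [e1, e2, herm_add_right hF, herm_smul_right, act_add, act_smul, herm_add_left, herm_smul_left] at h1
  exact h1

/-- the equations for the transvected frames: constant norm -/
theorem frame_norm_x {hF : Fintype.card F = q ^ 2} (hq : 3 ≤ q) (hB : Big hF K U) (h : NC K a b κ) {v w : Fin n → F}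
    (hf : TI q U v w) (ha : hermForm n F q (act a v) v ≠ 0) :
    hermForm n F q (act b w) v * hermForm n F q (act b v) w = 0 := by
  set A11 := hermForm n F q (act a v) v with hA11
  set A12 := hermForm n F q (act a v) w with hA12
  set A21 := hermForm n F q (act a w) v with hA21
  set A22 := hermForm n F q (act a w) w with hA22
  set B11 := hermForm n F q (act b v) v with hB11
  set B12 := hermForm n F q (act b v) w with hB12
  set B21 := hermForm n F q (act b w) v with hB21
  set B22 := hermForm n F q (act b w) w with hB22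
  have key : ∀ x : F, ((A12 + x ^ q * A11) * B21 + (A21 + x * A11) * B12) *
      ((A12 + x ^ q * A11) * B21 + (A21 + x * A11) * B12) ^ q +
      (A11 * B11) * ((A22 + x * A12 + x ^ q * A21 + x * x ^ q * A11) * B22) ^ q +
      ((A22 + x * A12 + x ^ q * A21 + x * x ^ q * A11) * B22) * (A11 * B11) ^ q = 0 := by
    intro x
    obtain ⟨k, hk, hkv, hkw⟩ := hB.exists_k hf x
    have h1 := frame_norm hq hB (h.conj hk) (hf.add hF x)
    have e1 := herm_conj k b w v
    have e2 := herm_conj k b v w
    have e3 := herm_conj k b v v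
    have e4 := herm_conj k b w w
    rw [hkv, hkw] at e1 e2
    rw [hkv] at e3
    rw [hkw] at e4
    have e5 : hermForm n F q (act a v) (w + x • v) = A12 + x ^ q * A11 := by
      rw [herm_add_right hF, herm_smul_right]
    have e6 : hermForm n F q (act a (w + x • v)) v = A21 + x * A11 := by
      rw [act_add, act_smul, herm_add_left, herm_smul_left]
    have e7 : hermForm n F q (act a (w + x • v)) (w + x • v) = A22 + x * A12 + x ^ q * A21 + x * x ^ q * A11 := by
      rw [act_add, act_smul, herm_add_left, herm_add_right hF, herm_add_right hF, herm_smul_left, herm_smul_left,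
        herm_smul_right, herm_smul_right]
      ring
    rw [e1, e2, e3, e4, e5, e6, e7] at h1
    exact h1
  have h2 := (one_param hF hq
    (c0 := (A12 * B21 + A21 * B12) * (A12 * B21 + A21 * B12) ^ q + A11 * B11 * (A22 * B22) ^ q +
      A22 * B22 * (A11 * B11) ^ q)
    (c1 := (A12 * B21 + A21 * B12) * (A11 * B21) ^ q + (A11 * B12) * (A12 * B21 + A21 * B12) ^ q +
      A11 * B11 * (A21 * B22) ^ q + A12 * B22 * (A11 * B11) ^ q)
    (c2 := (A12 * B21 + A21 * B12) * (A11 * B12) ^ q + (A11 * B21) * (A12 * B21 + A21 * B12) ^ q +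
      A11 * B11 * (A12 * B22) ^ q + A21 * B22 * (A11 * B11) ^ q)
    (c3 := (A11 * B12) * (A11 * B21) ^ q)
    (c4 := (A11 * B21) * (A11 * B12) ^ q)
    (c5 := (A11 * B21) * (A11 * B21) ^ q + (A11 * B12) * (A11 * B12) ^ q + A11 * B11 * (A11 * B22) ^ q +
      A11 * B22 * (A11 * B11) ^ q) (by
    intro x
    have h3 := key x
    have e1 : x ^ (2 * q) = x ^ q * x ^ q := by rw [two_mul, pow_add]
    have e2 : x ^ (q + 1) = x * x ^ q := by rw [pow_succ']
    have e3 : ((A12 + x ^ q * A11) * B21 + (A21 + x * A11) * B12) ^ q =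
        (A12 * B21 + A21 * B12) ^ q + x * (A11 * B21) ^ q + x ^ q * (A11 * B12) ^ q := by
      rw [show (A12 + x ^ q * A11) * B21 + (A21 + x * A11) * B12 =
        (A12 * B21 + A21 * B12) + x ^ q * (A11 * B21) + x * (A11 * B12) by ring, add_pow_q hF, add_pow_q hF,
        mul_pow, mul_pow x, pow_q_pow_q hF]
    have e4 : ((A22 + x * A12 + x ^ q * A21 + x * x ^ q * A11) * B22) ^ q =
        (A22 * B22) ^ q + x ^ q * (A12 * B22) ^ q + x * (A21 * B22) ^ q + x * x ^ q * (A11 * B22) ^ q := by
      rw [show (A22 + x * A12 + x ^ q * A21 + x * x ^ q * A11) * B22 =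
        A22 * B22 + x * (A12 * B22) + x ^ q * (A21 * B22) + (x * x ^ q) * (A11 * B22) by ring, add_pow_q hF,
        add_pow_q hF, add_pow_q hF, mul_pow x, mul_pow (x ^ q), mul_pow (x * x ^ q), mul_pow x, pow_q_pow_q hF]
      ring
    rw [e3, e4] at h3
    rw [e1, e2]
    linear_combination h3)).1
  rcases mul_eq_zero.1 h2 with h3 | h3
  · rcases mul_eq_zero.1 h3 with h4 | h4
    · exact absurd h4 ha
    · rw [h4, mul_zero]
  · rcases mul_eq_zero.1 ((pow_q_eq_zero hF).1 h3) with h4 | h4
    · exact absurd h4 ha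
    · rw [h4, zero_mul]

theorem herm_inv_conj (g b : SU n F q) {v w u u' : Fin n → F} {c d : F} (hv : act g v = c • u) (hw : act g w = d • u') :
    hermForm n F q (act (g⁻¹ * b * g⁻¹⁻¹) v) w = c * d ^ q * hermForm n F q (act b u) u' := by
  have h1 := herm_conj g⁻¹ b (act g v) (act g w)
  rw [act_inv_act, act_inv_act, hv, hw, act_smul, herm_smul_left, herm_smul_right] at h1
  rw [h1]
  ring

/-- **Constant trace.** -/
theorem zero_of_trace {hF : Fintype.card F = q ^ 2} (hB : Big hF K U) (h : TC K a b κ) {v : Fin n → F} (hvU : v ∈ U)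
    (hv : hermForm n F q v v = 0) (ha : hermForm n F q (act a v) v ≠ 0) {u : Fin n → F} (huU : u ∈ U)
    (hu : hermForm n F q u u = 0) : hermForm n F q (act b u) u = 0 := by
  have hv0 : v ≠ 0 := by
    rintro rfl
    exact ha (herm_zero_right hF _)
  by_cases hu0 : u = 0
  · rw [hu0, herm_zero_right hF]
  obtain ⟨w, hf⟩ := exists_frame hF hB.nd hB.dim hvU hv0 hv
  have key : ∀ u', TI q U u u' → hermForm n F q (act b u) u' = 0 := by
    intro u' hf'
    obtain ⟨g, hg, c, d, hc, hd, h1, h2⟩ := hB.tr v w u u' hf hf'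
    have h3 := fun x => frame_trace_x hB (h.conj (K.inv_mem hg)) hf x
    obtain ⟨x, hx⟩ := exists_not_fixed hF
    have h4 := h3 0
    have h5 := h3 1
    have h6 := h3 x
    rw [zero_pow_q hF] at h4
    rw [one_pow] at h5
    set P := hermForm n F q (act (g⁻¹ * b * g⁻¹⁻¹) w) v
    set Q := hermForm n F q (act (g⁻¹ * b * g⁻¹⁻¹) v) w with hQ
    set A := hermForm n F q (act a v) v
    have h7 : A * Q * (x - x ^ q) = 0 := by linear_combination h6 - h4 - x ^ q * (h5 - h4)
    have h8 : Q = 0 := by
      rcases mul_eq_zero.1 h7 with h8 | h8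
      · exact (mul_eq_zero.1 h8).resolve_left ha
      · exact absurd (sub_eq_zero.1 h8).symm hx
    rw [hQ, herm_inv_conj g b h1 h2] at h8
    exact (mul_eq_zero.1 h8).resolve_left (mul_ne_zero hc (pow_ne_zero _ hd))
  obtain ⟨u', hf'⟩ := exists_frame hF hB.nd hB.dim huU hu0 hu
  have h1 := key _ hf'
  have h2 := key _ (hf'.add hF 1)
  rw [one_smul, herm_add_right hF, h1, zero_add] at h2
  exact h2

/-- **Constant norm of the trace**, `3 ≤ q`. -/
theorem zero_of_norm {hF : Fintype.card F = q ^ 2} (hq : 3 ≤ q) (hB : Big hF K U) (h : NC K a b κ) {v : Fin n → F}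
    (hvU : v ∈ U) (hv : hermForm n F q v v = 0) (ha : hermForm n F q (act a v) v ≠ 0) {u : Fin n → F} (huU : u ∈ U)
    (hu : hermForm n F q u u = 0) : hermForm n F q (act b u) u = 0 := by
  have hv0 : v ≠ 0 := by
    rintro rfl
    exact ha (herm_zero_right hF _)
  by_cases hu0 : u = 0
  · rw [hu0, herm_zero_right hF]
  obtain ⟨w, hf⟩ := exists_frame hF hB.nd hB.dim hvU hv0 hv
  have key : ∀ u', TI q U u u' → hermForm n F q (act b u') u * hermForm n F q (act b u) u' = 0 := by
    intro u' hf'
    obtain ⟨g, hg, c, d, hc, hd, h1, h2⟩ := hB.tr v w u u' hf hf'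
    have h3 := frame_norm_x hq hB (h.conj (K.inv_mem hg)) hf ha
    rw [herm_inv_conj g b h1 h2, herm_inv_conj g b h2 h1] at h3
    have h4 : (d * c ^ q) * (c * d ^ q) ≠ 0 :=
      mul_ne_zero (mul_ne_zero hd (pow_ne_zero _ hc)) (mul_ne_zero hc (pow_ne_zero _ hd))
    apply mul_left_cancel₀ h4
    linear_combination h3
  obtain ⟨u', hf'⟩ := exists_frame hF hB.nd hB.dim huU hu0 hu
  have h2 := (one_param hF hq (c0 := hermForm n F q (act b u') u * hermForm n F q (act b u) u')
    (c1 := hermForm n F q (act b u) u * hermForm n F q (act b u) u')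
    (c2 := hermForm n F q (act b u) u * hermForm n F q (act b u') u) (c3 := 0) (c4 := 0)
    (c5 := hermForm n F q (act b u) u * hermForm n F q (act b u) u) (by
    intro x
    have h1 := key _ (hf'.add hF x)
    rw [act_add, act_smul, herm_add_left, herm_smul_left, herm_add_right hF, herm_smul_right] at h1
    rw [pow_succ']
    linear_combination h1)).2
  exact mul_self_eq_zero.1 h2

end Cfsg.Agent.H519.AH
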