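import Mathlib
import Cfsg.Agent.H519.AH.Pair

/-!
# S2451, the unitary groups (helper519): `PB b` forces `b` to be a transvection modulo scalars
-/

set_option autoImplicit false
set_option linter.unusedSectionVars false

namespace Cfsg.Agent.H519.AH

open Module Cfsg Cfsg.Agent.LieClassical.HermBasic Cfsg.Agent.LieClassical.HermSiegel
open Cfsg.Agent.H105.SzU Cfsg.Agent.H105.Sz Cfsg.Agent.ClassicalGeometry.HermOrtho Cfsg.Agent.LieClassical.HermGen
open Cfsg.Agent.ClassicalGeometry.UnitAutBasic Cfsg.Agent.H330.ClassProd Cfsg.Agent.H27.AH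
open scoped Matrix

section Dual

variable {F : Type*} [Field F] [Fintype F] {n q : ℕ}

/-- the dimension of the orthogonal complement -/
theorem finrank_perp_le (hF : Fintype.card F = q ^ 2) (W : Submodule F (Fin n → F)) :
    finrank F W + finrank F (hermPerp q (W : Set (Fin n → F)) : Submodule F (Fin n → F)) ≤ n := by
  classical
  let b := Module.finBasis F W
  let φ : (Fin n → F) →ₗ[F] (Fin (finrank F W) → F) := LinearMap.pi fun i => hermLeft q (b i : Fin n → F)
  have h1 := LinearMap.finrank_range_add_finrank_ker φ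
  rw [finrank_fin_fun] at h1
  have h2 : LinearMap.range φ = ⊤ := by
    by_contra hne
    obtain ⟨f, hf0, hf⟩ := Submodule.exists_le_ker_of_lt_top _ (lt_top_iff_ne_top.2 hne)
    apply hf0
    set c : Fin (finrank F W) → F := fun i => f (Pi.single i 1) with hc
    have h3 : ∀ y : Fin (finrank F W) → F, f y = ∑ i, y i * c i := by
      intro y
      conv_lhs => rw [pi_eq_sum_univ' y]
      rw [map_sum]
      refine Finset.sum_congr rfl fun i _ => ?_
      rw [map_smul, smul_eq_mul, hc]
    have h4 : ∀ x : Fin n → F, hermForm n F q x (∑ i, (c i) ^ q • (b i : Fin n → F)) = 0 := by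
      intro x
      have h5 : f (φ x) = 0 := hf ⟨x, rfl⟩
      rw [h3] at h5
      rw [herm_sum_right hF, ← h5]
      refine Finset.sum_congr rfl fun i _ => ?_
      rw [herm_smul_right, pow_q_pow_q hF, mul_comm]
      rfl
    have h5 : (∑ i, (c i) ^ q • (b i : Fin n → F)) = 0 :=
      herm_nondeg hF fun v => herm_eq_zero_swap hF (h4 v)
    have h6 : ∑ i, (c i) ^ q • b i = 0 := by
      apply Subtype.ext
      rw [Submodule.coe_sum]
      exact h5
    have h7 := Fintype.linearIndependent_iff.1 b.linearIndependent _ h6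
    apply LinearMap.ext
    intro y
    rw [h3, LinearMap.zero_apply]
    refine Finset.sum_eq_zero fun i _ => ?_
    rw [(pow_q_eq_zero hF).1 (h7 i), mul_zero]
  rw [h2, finrank_top, finrank_fin_fun] at h1
  have h3 : (hermPerp q (W : Set (Fin n → F)) : Submodule F (Fin n → F)) ≤ LinearMap.ker φ := by
    intro x hx
    rw [mem_hermPerp] at hx
    rw [LinearMap.mem_ker]
    funext i
    exact hx _ (b i).2
  have h4 := Submodule.finrank_mono h3
  omega

/-- a large subspace contains a vector of norm one -/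
theorem exists_norm_one (hF : Fintype.card F = q ^ 2) {W : Submodule F (Fin n → F)} (h : n < 2 * finrank F W) :
    ∃ w ∈ W, hermForm n F q w w = 1 := by
  obtain ⟨v, hv, hvv⟩ : ∃ v ∈ W, hermForm n F q v v ≠ 0 := by
    by_contra hcon
    push Not at hcon
    have h1 : W ≤ (hermPerp q (W : Set (Fin n → F)) : Submodule F (Fin n → F)) := by
      intro x hx
      rw [mem_hermPerp]
      exact fun v hv => herm_eq_zero_of_isotropic hF W hcon hx hv
    have h2 := Submodule.finrank_mono h1
    have h3 := finrank_perp_le hF W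
    omega
  obtain ⟨a, ha⟩ := exists_norm_eq hF (c := (hermForm n F q v v)⁻¹)
    (by rw [inv_pow, herm_self_pow hF])
  refine ⟨a • v, W.smul_mem a hv, ?_⟩
  rw [herm_smul_left, herm_smul_right, ← mul_assoc, ha, inv_mul_cancel₀ hvv]

/-- a large subspace contains an isotropic vector outside of its radical -/
theorem exists_iso_nonrad (hF : Fintype.card F = q ^ 2) {W : Submodule F (Fin n → F)} (h : n + 2 < 2 * finrank F W) :
    ∃ k ∈ W, ∃ e ∈ W, hermForm n F q k k = 0 ∧ hermForm n F q e k ≠ 0 := by
  obtain ⟨e1, h1, h11⟩ := exists_norm_one hF (W := W) (by omega)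
  have h2 := finrank_inf_perp (q := q) W ![e1]
  obtain ⟨e2, h3, h22⟩ := exists_norm_one hF
    (W := (W ⊓ hermPerp q (Set.range ![e1]) : Submodule F (Fin n → F))) (by omega)
  rw [Submodule.mem_inf, mem_hermPerp] at h3
  have h21 : hermForm n F q e2 e1 = 0 := h3.2 _ ⟨0, rfl⟩
  have h12 : hermForm n F q e1 e2 = 0 := herm_eq_zero_swap hF h21
  obtain ⟨η, hη⟩ := exists_norm_eq hF (c := -1) (by rw [neg_pow_q hF, one_pow])
  refine ⟨e1 + η • e2, W.add_mem h1 (W.smul_mem _ h3.1), e1, h1, ?_, ?_⟩
  · rw [herm_add_left, herm_add_right hF, herm_add_right hF, herm_smul_left, herm_smul_left, herm_smul_right,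
      herm_smul_right, h11, h12, h21, h22]
    linear_combination hη
  · rw [herm_add_right hF, herm_smul_right, h11, h12]
    simp

/-- eigenspaces -/
def eig (b : SU n F q) (κ : F) : Submodule F (Fin n → F) where
  carrier := {x | act b x = κ • x}
  add_mem' := fun {x y} hx hy => by
    change act b (x + y) = κ • (x + y)
    rw [act_add, hx, hy, smul_add]
  zero_mem' := by
    change act b 0 = κ • 0
    rw [act_zero, smul_zero]
  smul_mem' := fun c x hx => by
    change act b (c • x) = κ • c • x
    rw [act_smul, hx, smul_comm]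

theorem mem_eig {b : SU n F q} {κ : F} {x : Fin n → F} : x ∈ eig b κ ↔ act b x = κ • x := Iff.rfl

variable {b : SU n F q}

/-- **The local form.** -/
theorem pb_local (hF : Fintype.card F = q ^ 2) (hb : PB b) {v : Fin n → F} (hv : hermForm n F q v v = 0)
    (hβ : hermForm n F q (act b v) v ≠ 0) : ∃ κ : F, ∀ w, hermForm n F q w v = 0 → ∃ l : F,
      act b w = κ • w + (hermForm n F q (act b w) v / hermForm n F q (act b v) v) • act b v + l • v := by
  set β := hermForm n F q (act b v) v with hβd
  have hv0 : v ≠ 0 := by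
    rintro rfl
    exact hβ (herm_zero_right hF _)
  obtain ⟨f, -, hf, hvf⟩ := exists_partner_mem hF (ND_top hF) trivial hv0 hv
  have hfv : hermForm n F q f v = 1 := by rw [herm_swap hF v f, hvf, one_pow]
  have hvb : hermForm n F q v (act b v) = β ^ q := herm_swap hF _ _
  have hU := nd_hyp hF (ND_top hF) (trivial : v ∈ (⊤ : Submodule F (Fin n → F))) trivial hv hf hvf
  let f0 : (Fin n → F) → (Fin n → F) → F := fun w w' =>
    hermForm n F q (act b w) w' - hermForm n F q (act b w) v * hermForm n F q (act b v) w' / β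
  have hf0 : ∀ w w', f0 w w' =
    hermForm n F q (act b w) w' - hermForm n F q (act b w) v * hermForm n F q (act b v) w' / β := fun _ _ => rfl
  have hs : Sesq q f0 := by
    refine ⟨fun x x' y => ?_, fun x y y' => ?_, fun c x y => ?_, fun c x y => ?_⟩
    · rw [hf0, hf0, hf0, act_add, herm_add_left, herm_add_left]
      ring
    · rw [hf0, hf0, hf0, herm_add_right hF, herm_add_right hF]
      ring
    · rw [hf0, hf0, act_smul, herm_smul_left, herm_smul_left]
      ring
    · rw [hf0, hf0, herm_smul_right, herm_smul_right]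
      ring
  obtain ⟨κ, hκ⟩ := sesq_scalar_const hF hs hU (κ := 0) (Or.inl rfl) (by
    intro w hw _ hww
    rw [mem_perp_pair] at hw
    -- correct `w`
    set t := (hermForm n F q (act b v) w / β) ^ q with ht
    have htq : t ^ q = hermForm n F q (act b v) w / β := pow_q_pow_q hF _
    have hvw : hermForm n F q v w = 0 := herm_eq_zero_swap hF hw.1
    have e1 : hermForm n F q (w - t • v) (w - t • v) = 0 := by
      rw [herm_sub_left, herm_sub_right hF, herm_sub_right hF, herm_smul_left, herm_smul_left, herm_smul_right,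
        herm_smul_right, hww, hv, hvw, hw.1]
      ring
    have e2 : hermForm n F q (w - t • v) v = 0 := by
      rw [herm_sub_left, herm_smul_left, hv, hw.1]
      ring
    have e3 : hermForm n F q (w - t • v) (act b v) = 0 := by
      apply herm_eq_zero_swap hF
      rw [herm_sub_right hF, herm_smul_right, htq, ← hβd, div_mul_cancel₀ _ hβ, sub_self]
    have e4 := hb v (w - t • v) hv hβ e1 e2 e3
    rw [act_sub, act_smul, herm_sub_left, herm_sub_right hF, herm_sub_right hF, herm_smul_left, herm_smul_left,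
      herm_smul_right, herm_smul_right, htq, ← hβd] at e4
    rw [hf0]
    field_simp
    field_simp at e4
    linear_combination e4)
  refine ⟨κ, fun w hw => ?_⟩
  -- the values on `v ^ ⊥`
  have hval : ∀ w', hermForm n F q w' v = 0 → f0 w w' = κ * hermForm n F q w w' := by
    intro w' hw'
    have m1 : w - hermForm n F q w f • v ∈ (⊤ ⊓ hermPerp q (Set.range ![v, f]) : Submodule F (Fin n → F)) := by
      rw [mem_perp_pair]
      constructor
      · rw [herm_sub_left, herm_smul_left, hv, hw]; ring
      · rw [herm_sub_left, herm_smul_left, hvf]; ring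
    have m2 : w' - hermForm n F q w' f • v ∈ (⊤ ⊓ hermPerp q (Set.range ![v, f]) : Submodule F (Fin n → F)) := by
      rw [mem_perp_pair]
      constructor
      · rw [herm_sub_left, herm_smul_left, hv, hw']; ring
      · rw [herm_sub_left, herm_smul_left, hvf]; ring
    have e1 := hκ _ m1 _ m2
    have e2 : ∀ y, f0 v y = 0 := by
      intro y
      rw [hf0, ← hβd, mul_div_assoc, mul_div_cancel₀ _ hβ, sub_self]
    have e3 : ∀ y, f0 y v = 0 := by
      intro y
      rw [hf0, ← hβd, mul_div_assoc, div_self hβ, mul_one, sub_self]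
    have hvw' : hermForm n F q v w' = 0 := herm_eq_zero_swap hF hw'
    have e4 : ∀ x x' y, f0 (x - x') y = f0 x y - f0 x' y := by
      intro x x' y
      rw [hf0, hf0, hf0, act_sub, herm_sub_left, herm_sub_left]
      ring
    have e5 : ∀ x y y', f0 x (y - y') = f0 x y - f0 x y' := by
      intro x y y'
      rw [hf0, hf0, hf0, herm_sub_right hF, herm_sub_right hF]
      ring
    rw [e4, e5, e5, hs.smull, hs.smulr, hs.smull, e2, e3, e2, herm_sub_left, herm_sub_right hF, herm_sub_right hF,
      herm_smul_left, herm_smul_right, herm_smul_left, herm_smul_right, hw, hvw', hv] at e1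
    linear_combination e1
  set t := act b w - κ • w - (hermForm n F q (act b w) v / β) • act b v with ht
  have ht1 : ∀ w', hermForm n F q w' v = 0 → hermForm n F q t w' = 0 := by
    intro w' hw'
    have e1 := hval w' hw'
    rw [hf0] at e1
    rw [ht, herm_sub_left, herm_sub_left, herm_smul_left, herm_smul_left, ← e1]
    ring
  have ht2 : t = hermForm n F q t f • v := by
    rw [← sub_eq_zero]
    refine herm_nondeg hF fun x => ?_
    have e1 : hermForm n F q (x - hermForm n F q x v • f) v = 0 := by
      rw [herm_sub_left, herm_smul_left, hfv]; ring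
    have e2 := ht1 _ e1
    rw [herm_sub_right hF, herm_smul_right] at e2
    have e3 : hermForm n F q v x = hermForm n F q x v ^ q := herm_swap hF _ _
    rw [herm_sub_left, herm_smul_left, e3]
    linear_combination e2
  refine ⟨hermForm n F q t f, ?_⟩
  rw [← ht2, ht]
  abel

/-- the eigenspace -/
theorem le_finrank_eig (hF : Fintype.card F = q ^ 2) {v : Fin n → F} (hv : hermForm n F q v v = 0)
    (hβ : hermForm n F q (act b v) v ≠ 0) {κ : F} (hκ : ∀ w, hermForm n F q w v = 0 → ∃ l : F,
      act b w = κ • w + (hermForm n F q (act b w) v / hermForm n F q (act b v) v) • act b v + l • v) :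
    n ≤ finrank F (eig b κ) + 3 := by
  have hv0 : v ≠ 0 := by
    rintro rfl
    exact hβ (herm_zero_right hF _)
  obtain ⟨f, -, hf, hvf⟩ := exists_partner_mem hF (ND_top hF) trivial hv0 hv
  have h1 := finrank_inf_perp (q := q) (⊤ : Submodule F (Fin n → F))
    ![v, act b⁻¹ v, act b⁻¹ f - κ ^ q • f]
  rw [finrank_top, finrank_fin_fun] at h1
  refine h1.trans (Nat.add_le_add_right (Submodule.finrank_mono ?_) _)
  intro w hw
  rw [Submodule.mem_inf, mem_hermPerp] at hw
  have h2 : hermForm n F q w v = 0 := hw.2 _ ⟨0, rfl⟩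
  have h3 : hermForm n F q w (act b⁻¹ v) = 0 := hw.2 _ ⟨1, rfl⟩
  have h4 : hermForm n F q w (act b⁻¹ f - κ ^ q • f) = 0 := hw.2 _ ⟨2, rfl⟩
  have e : ∀ y, hermForm n F q w (act b⁻¹ y) = hermForm n F q (act b w) y := by
    intro y
    rw [← herm_act b w, act_act_inv]
  rw [e] at h3
  rw [herm_sub_right hF, e, herm_smul_right, pow_q_pow_q hF] at h4
  obtain ⟨l, hl⟩ := hκ w h2
  rw [h3, zero_div, zero_smul, add_zero] at hl
  have h5 : l = 0 := by
    rw [hl, herm_add_left, herm_smul_left, herm_smul_left, hvf] at h4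
    linear_combination h4
  rw [mem_eig, hl, h5, zero_smul, add_zero]

/-- disjoint eigenspaces -/
theorem eig_unique {κ κ' : F} (h : n < finrank F (eig b κ) + finrank F (eig b κ')) : κ = κ' := by
  by_contra hne
  have h1 : eig b κ ⊓ eig b κ' = ⊥ := by
    rw [Submodule.eq_bot_iff]
    rintro x ⟨hx, hx'⟩
    have e1 : act b x = κ • x := hx
    have e2 : act b x = κ' • x := hx'
    have e3 : (κ - κ') • x = 0 := by rw [sub_smul, ← e1, ← e2, sub_self]
    exact (smul_eq_zero.1 e3).resolve_left (sub_ne_zero.2 hne)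
  have h2 := Submodule.finrank_sup_add_finrank_inf_eq (eig b κ) (eig b κ')
  rw [h1, finrank_bot] at h2
  have h3 := (eig b κ ⊔ eig b κ').finrank_le
  rw [finrank_fin_fun] at h3
  omega

end Dual

section Two

variable {F : Type*} [Field F] [Fintype F] {n : ℕ} {b : SU n F 2}

/-- **`b` is a transvection modulo scalars.** -/
theorem transv_of_pb (hF : Fintype.card F = 2 ^ 2) (h3 : 3 ∣ n) (hn : 9 ≤ n) (hb1 : pr n F 2 b ≠ 1) (hb : PB b) :
    ∃ (κ δ : F) (ρ : Fin n → F), κ ≠ 0 ∧ δ ≠ 0 ∧ ρ ≠ 0 ∧ hermForm n F 2 ρ ρ = 0 ∧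
      ∀ x, act b x = κ • x + (δ * hermForm n F 2 x ρ) • ρ := by
  obtain ⟨v0, hv0, hg0⟩ : ∃ v : Fin n → F, hermForm n F 2 v v = 0 ∧ hermForm n F 2 (act b v) v ≠ 0 := by
    by_contra hcon
    push Not at hcon
    exact hb1 (pr_eq_one_of_zero hF hcon)
  obtain ⟨κ, hκ⟩ := pb_local hF hb hv0 hg0
  have hfr := le_finrank_eig hF hv0 hg0 hκ
  obtain ⟨k, hk, e, he, hkk, hek⟩ := exists_iso_nonrad hF (W := eig b κ) (by omega)
  rw [mem_eig] at hk he
  have hk0 : k ≠ 0 := by
    rintro rfl
    exact hek (herm_zero_right hF _)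
  have hκ0 : κ ≠ 0 := by
    rintro rfl
    rw [zero_smul, act_eq_zero] at hk
    exact hk0 hk
  have hκ1 : κ * κ ^ 2 = 1 := norm_one_two hF hκ0
  -- the image of `b - κ` is orthogonal to the eigenspace
  have horth : ∀ x y : Fin n → F, act b y = κ • y → hermForm n F 2 (act b x - κ • x) y = 0 := by
    intro x y hy
    have e1 := herm_act b x y
    rw [hy, herm_smul_right] at e1
    rw [herm_sub_left, herm_smul_left, ← e1, ← mul_assoc, hκ1, one_mul, sub_self]
  -- a good vector not orthogonal to the eigenspace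
  obtain ⟨v, c, hv, hg, hc, hcv⟩ : ∃ v c : Fin n → F, hermForm n F 2 v v = 0 ∧ hermForm n F 2 (act b v) v ≠ 0 ∧
      act b c = κ • c ∧ hermForm n F 2 c v ≠ 0 := by
    by_cases hex : ∃ c : Fin n → F, act b c = κ • c ∧ hermForm n F 2 c v0 ≠ 0
    · obtain ⟨c, hc1, hc2⟩ := hex
      exact ⟨v0, c, hv0, hg0, hc1, hc2⟩
    · push Not at hex
      have e1 : hermForm n F 2 k v0 = 0 := hex k hk
      have e2 : hermForm n F 2 v0 k = 0 := herm_eq_zero_swap hF e1
      have e3 : hermForm n F 2 e v0 = 0 := hex e he
      refine ⟨v0 + k, e, ?_, ?_, he, ?_⟩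
      · rw [herm_add_left, herm_add_right hF, herm_add_right hF, hv0, e1, e2, hkk]
        ring
      · have e4 := horth v0 k hk
        rw [herm_sub_left, herm_smul_left, e2, mul_zero, sub_zero] at e4
        rw [act_add, hk, herm_add_left, herm_add_right hF, herm_add_right hF, herm_smul_left, herm_smul_left, e1, hkk,
          e4]
        simpa using hg0
      · rw [herm_add_right hF, e3, zero_add]
        exact hek
  obtain ⟨κ', hκ'⟩ := pb_local hF hb hv hg
  have hfr' := le_finrank_eig hF hv hg hκ'
  have hκκ : κ' = κ := eig_unique (b := b) (by omega)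
  subst hκκ
  set β := hermForm n F 2 (act b v) v with hβ
  set ρ := act b v - κ' • v with hρ
  have hvc : hermForm n F 2 v c ≠ 0 := fun h0 => hcv (herm_eq_zero_swap hF h0)
  have hρc : ∀ y, act b y = κ' • y → hermForm n F 2 y ρ = 0 := fun y hy => herm_eq_zero_swap hF (horth v y hy)
  have hvρ : hermForm n F 2 v ρ = β ^ 2 := by
    rw [hρ, herm_sub_right hF, herm_smul_right, hv, mul_zero, sub_zero]
    exact herm_swap hF _ _
  have hβ2 : β ^ 2 ≠ 0 := pow_ne_zero _ hg
  have hρ0 : ρ ≠ 0 := by
    intro h0
    rw [h0, herm_zero_right hF] at hvρ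
    exact hβ2 hvρ.symm
  -- the linear functional
  have key : ∀ x : Fin n → F, ∃ s : F, act b x - κ' • x = s • ρ := by
    intro x
    set w := x - (hermForm n F 2 x v / hermForm n F 2 c v) • c with hw
    have hwv : hermForm n F 2 w v = 0 := by
      rw [hw, herm_sub_left, herm_smul_left, div_mul_cancel₀ _ hcv, sub_self]
    obtain ⟨l, hl⟩ := hκ' w hwv
    set s := hermForm n F 2 (act b w) v / β with hs
    have e1 : act b x - κ' • x = act b w - κ' • w := by
      rw [hw, act_sub, act_smul, hc]
      module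
    have e2 : act b x - κ' • x = s • ρ + (s * κ' + l) • v := by
      rw [e1, hl, hρ]
      module
    have e3 := horth x c hc
    rw [e2, herm_add_left, herm_smul_left, herm_smul_left, horth v c hc, mul_zero, zero_add, mul_eq_zero] at e3
    have e4 := e3.resolve_right hvc
    exact ⟨s, by rw [e2, e4, zero_smul, add_zero]⟩
  have hform : ∀ x, act b x = κ' • x + ((β ^ 2)⁻¹ * hermForm n F 2 x ρ) • ρ := by
    intro x
    obtain ⟨s, hs⟩ := key x
    have e1 : act b (x - s • v) = κ' • (x - s • v) := by
      rw [act_sub, act_smul, ← sub_eq_zero]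
      have : act b x - s • act b v - κ' • (x - s • v) = (act b x - κ' • x) - s • ρ := by
        rw [hρ]
        module
      rw [this, hs, sub_self]
    have e2 := hρc _ e1
    rw [herm_sub_left, herm_smul_left, hvρ, sub_eq_zero] at e2
    rw [e2, mul_comm s, ← mul_assoc, inv_mul_cancel₀ hβ2, one_mul, ← hs]
    abel
  refine ⟨κ', (β ^ 2)⁻¹, ρ, hκ0, inv_ne_zero hβ2, hρ0, ?_, hform⟩
  by_contra hρρ
  exact not_spec hF h3 hb1 ⟨κ', (β ^ 2)⁻¹, ρ, hρρ, hκ1, hform⟩

end Two

end Cfsg.Agent.H519.AH
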